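import Mathlib

/-!
Sign vectors of length seven and a Sylow 2-subgroup of the alternating group of degree seven:
the finite checks used for the monomial subgroup `2^6 : A₇` of `Ω₇(q)`.
-/

set_option autoImplicit false

namespace CfsgLib.OmegaSeven

open Equiv

/-- Sign vectors. -/
abbrev Sgn : Type := Fin 7 → ℤˣ

/-- A sign vector moved by a permutation. -/
def moveSgn (σ : Perm (Fin 7)) (ε : Sgn) : Sgn := fun i => ε (σ.symm i)

/-- The sign vector with `-1` at the two given places. -/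
def pairSgn (i j : Fin 7) : Sgn := fun k => if k = i ∨ k = j then -1 else 1

/-- The eight permutations. -/
def dperm (k : Fin 2 × Fin 2 × Fin 2) : Perm (Fin 7) :=
  (swap 0 1 * swap 4 5) ^ (k.1 : ℕ) * ((swap 0 1 * swap 2 3) ^ (k.2.1 : ℕ) * (swap 0 2 * swap 1 3) ^ (k.2.2 : ℕ))

theorem dperm_mul : ∀ k l, ∃ m, dperm k * dperm l = dperm m := by decide +kernel

theorem dperm_one : ∃ m, dperm m = 1 := ⟨(0, 0, 0), by decide +kernel⟩

theorem sign_dperm : ∀ k, Perm.sign (dperm k) = 1 := by decide +kernel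

/-- The dihedral group of order eight. -/
def D8 : Subgroup (Perm (Fin 7)) where
  carrier := Set.range dperm
  one_mem' := dperm_one
  mul_mem' := by
    rintro _ _ ⟨k, rfl⟩ ⟨l, rfl⟩
    obtain ⟨m, hm⟩ := dperm_mul k l
    exact ⟨m, hm.symm⟩
  inv_mem' := by
    rintro _ ⟨k, rfl⟩
    obtain ⟨l, hl⟩ := (show ∀ k, ∃ l, dperm k * dperm l = 1 by decide +kernel) k
    exact ⟨l, eq_inv_of_mul_eq_one_right hl⟩

theorem mem_D8 {σ : Perm (Fin 7)} : σ ∈ D8 ↔ ∃ k, dperm k = σ := Iff.rfl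

theorem sign_D8 {σ : Perm (Fin 7)} (h : σ ∈ D8) : Perm.sign σ = 1 := by
  obtain ⟨k, rfl⟩ := h
  exact sign_dperm k

theorem dperm_injective : Function.Injective dperm := by
  intro k l
  revert k l
  decide +kernel

theorem card_D8 : Nat.card D8 = 8 := by
  show Nat.card (Set.range dperm) = 8
  rw [← Nat.card_congr (Equiv.ofInjective dperm dperm_injective), Nat.card_eq_fintype_card]
  rfl

/-- The central involution. -/
def zPerm : Perm (Fin 7) := swap 0 1 * swap 2 3

theorem zPerm_mem : zPerm ∈ D8 := mem_D8.mpr ⟨(0, 1, 0), by decide +kernel⟩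

theorem eq_zPerm_of_central : ∀ k, dperm k ≠ 1 →
    (∀ l, dperm k * dperm l = dperm l * dperm k) → dperm k = zPerm := by decide +kernel

theorem zPerm_central : ∀ l, zPerm * dperm l = dperm l * zPerm := by decide +kernel

theorem candidate : ∀ a c e : Fin 7, ∀ f : Fin 7 → Fin 7,
    f = ![a, zPerm a, c, zPerm c, e, (if e = 4 then 5 else 4), 6] →
    (a ≠ zPerm a) → (c ≠ zPerm c) → c ≠ a → c ≠ zPerm a → (e = 4 ∨ e = 5) →
    ∃ k, (f = ⇑(dperm k) ∨ f = ⇑(dperm k * (swap 4 5 : Perm (Fin 7)))) := by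
  intro a c e f hf
  subst hf
  revert a c e
  decide +kernel

theorem moved_four : ∀ e : Fin 7, zPerm e = e → (∃ k, dperm k e ≠ e) → e = 4 ∨ e = 5 := by decide +kernel

theorem fixed_six : ∀ e : Fin 7, (∀ k, dperm k e = e) → e = 6 := by decide +kernel

theorem dperm_six : ∀ k, dperm k 6 = 6 := by decide +kernel

theorem zPerm_moved : zPerm 0 ≠ 0 ∧ zPerm 2 ≠ 2 ∧ zPerm 0 = 1 ∧ zPerm 2 = 3 ∧ zPerm 4 = 4 ∧ zPerm 5 = 5 := by
  decide +kernel

/-- The group is its own normalizer among the even permutations. -/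
theorem mem_D8_of_normalize {σ : Perm (Fin 7)} (hσ : Perm.sign σ = 1)
    (h : ∀ d ∈ D8, σ * d * σ⁻¹ ∈ D8) : σ ∈ D8 := by
  have h' : ∀ k, ∃ l, σ * dperm k * σ⁻¹ = dperm l := fun k => by
    obtain ⟨l, hl⟩ := h _ ⟨k, rfl⟩
    exact ⟨l, hl.symm⟩
  have hback : ∀ l, ∃ k, σ * dperm k * σ⁻¹ = dperm l := by
    choose g hg using h'
    have hgi : Function.Injective g := fun a b hab => dperm_injective (by
      have := (hg a).trans ((congrArg dperm hab).trans (hg b).symm)
      simpa using this)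
    intro l
    obtain ⟨k, rfl⟩ := Finite.surjective_of_injective hgi l
    exact ⟨k, hg k⟩
  have hz : σ * zPerm * σ⁻¹ = zPerm := by
    obtain ⟨k, hk⟩ := zPerm_mem
    obtain ⟨m, hm⟩ := h' k
    rw [hk] at hm
    rw [hm]
    refine eq_zPerm_of_central m (fun h1 => ?_) fun l => ?_
    · rw [h1] at hm
      exact (show zPerm ≠ 1 by decide +kernel) (by simpa [mul_inv_eq_one] using hm)
    · obtain ⟨j, hj⟩ := hback l
      rw [← hm, ← hj]
      have := zPerm_central j
      calc σ * zPerm * σ⁻¹ * (σ * dperm j * σ⁻¹) = σ * (zPerm * dperm j) * σ⁻¹ := by group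
        _ = σ * (dperm j * zPerm) * σ⁻¹ := by rw [this]
        _ = _ := by group
  have hzc : ∀ x, σ (zPerm x) = zPerm (σ x) := fun x => by
    conv_rhs => rw [← hz]
    simp
  have h6 : σ 6 = 6 := by
    refine fixed_six _ fun l => ?_
    obtain ⟨k, hk⟩ := hback l
    rw [← hk]
    simp [dperm_six k]
  obtain ⟨hz0, hz2, hz01, hz23, hz4, hz5⟩ := zPerm_moved
  have h45 : ∀ x, zPerm x = x → x ≠ 6 → σ x = 4 ∨ σ x = 5 := by
    intro x hx hx6
    refine moved_four _ (by rw [← hzc, hx]) ?_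
    by_contra hcon
    push Not at hcon
    exact hx6 (σ.injective ((fixed_six _ hcon).trans h6.symm))
  have hf : ⇑σ = ![σ 0, zPerm (σ 0), σ 2, zPerm (σ 2), σ 4, (if σ 4 = 4 then 5 else 4), 6] := by
    funext x
    fin_cases x
    · rfl
    · simp [← hzc, hz01]
    · rfl
    · simp [← hzc, hz23]
    · rfl
    · have hne : σ 5 ≠ σ 4 := fun he => absurd (σ.injective he) (by decide)
      rcases h45 4 hz4 (by decide) with e4 | e4 <;> rcases h45 5 hz5 (by decide) with e5 | e5 <;>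
        simp_all
    · simpa using h6
  obtain ⟨k, hk | hk⟩ := candidate (σ 0) (σ 2) (σ 4) ⇑σ hf
    (fun he => hz0 (σ.injective ((hzc 0).trans he.symm)))
    (fun he => hz2 (σ.injective ((hzc 2).trans he.symm)))
    (fun he => absurd (σ.injective he) (by decide))
    (fun he => absurd (σ.injective (he.trans (hzc 0).symm)) (by decide +kernel))
    (h45 4 hz4 (by decide))
  · exact ⟨k, (Equiv.coe_fn_injective hk).symm⟩
  · have := Equiv.coe_fn_injective hk
    rw [this, map_mul, sign_dperm, one_mul, Perm.sign_swap (by decide)] at hσ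
    exact absurd hσ (by decide)

theorem prod_moveSgn (σ : Perm (Fin 7)) (ε : Sgn) : ∏ i, moveSgn σ ε i = ∏ i, ε i :=
  Equiv.prod_comp σ.symm ε

theorem moveSgn_one (ε : Sgn) : moveSgn 1 ε = ε := rfl

theorem moveSgn_mul (σ τ : Perm (Fin 7)) (ε : Sgn) : moveSgn σ (moveSgn τ ε) = moveSgn (σ * τ) ε := rfl

theorem moveSgn_inv (σ : Perm (Fin 7)) (ε : Sgn) : moveSgn σ ε⁻¹ = (moveSgn σ ε)⁻¹ := rfl

theorem moveSgn_mul' (σ : Perm (Fin 7)) (ε δ : Sgn) : moveSgn σ (ε * δ) = moveSgn σ ε * moveSgn σ δ := rfl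

theorem moveSgn_pair (σ : Perm (Fin 7)) (i j : Fin 7) : moveSgn σ (pairSgn i j) = pairSgn (σ i) (σ j) := by
  funext k
  simp [moveSgn, pairSgn, Equiv.symm_apply_eq]

theorem prod_pairSgn {i j : Fin 7} : i ≠ j → ∏ k, pairSgn i j k = 1 := by
  revert i j
  decide +kernel

/-- The fixed vectors of an involution of `D8` number at most sixteen. -/
theorem card_fix_le : ∀ k, dperm k ≠ 1 →
    (Finset.univ.filter fun ε : Sgn => ∏ i, ε i = 1 ∧ moveSgn (dperm k) ε = ε).card ≤ 16 := by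
  decide +kernel

theorem card_fix_two_le : ∀ k l, dperm k ≠ 1 → dperm l ≠ 1 → k ≠ l →
    dperm k * dperm k = 1 → dperm l * dperm l = 1 → dperm k * dperm l = dperm l * dperm k →
    (Finset.univ.filter fun ε : Sgn => ∏ i, ε i = 1 ∧ moveSgn (dperm k) ε = ε ∧
      moveSgn (dperm l) ε = ε).card ≤ 8 := by
  decide +kernel

theorem card_comm_le : ∀ k l, dperm k ≠ 1 → dperm l ≠ 1 → k ≠ l →
    (Finset.univ.filter fun m => dperm m * dperm m = 1 ∧ dperm m * dperm k = dperm k * dperm m ∧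
      dperm m * dperm l = dperm l * dperm m).card ≤ 4 := by
  decide +kernel

theorem card_sgn : (Finset.univ.filter fun ε : Sgn => ∏ i, ε i = 1).card = 64 := by decide +kernel

theorem exists_moved : ∀ ε : Sgn, ∏ i, ε i = 1 → ε ≠ 1 →
    ∃ i j k l : Fin 7, i ≠ j ∧ k ≠ l ∧ i ≠ k ∧ i ≠ l ∧ j ≠ k ∧ j ≠ l ∧ ε i ≠ ε j ∧ ε k = ε l := by
  intro ε hε h1
  have hne : ∃ i j, ε i ≠ ε j := by
    by_contra hc
    push Not at hc
    have hall : ∀ i, ε i = ε 0 := fun i => hc i 0
    rw [Finset.prod_congr rfl fun i _ => hall i, Finset.prod_const] at hε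
    rcases Int.units_eq_one_or (ε 0) with h | h
    · exact h1 (funext fun i => (hall i).trans h)
    · rw [h] at hε
      exact absurd hε (by decide)
  obtain ⟨i, j, hij⟩ := hne
  have hij' : i ≠ j := fun h => hij (congrArg ε h)
  have hcard : (Finset.univ : Finset ℤˣ).card < ((Finset.univ : Finset (Fin 7)) \ {i, j}).card := by
    rw [Finset.card_sdiff_of_subset (Finset.subset_univ _), Finset.card_pair hij']
    decide
  obtain ⟨k, hk, l, hl, hkl, he⟩ :=
    Finset.exists_ne_map_eq_of_card_lt_of_maps_to hcard (f := ε) fun a _ => Finset.mem_univ _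
  simp only [Finset.mem_sdiff, Finset.mem_univ, true_and, Finset.mem_insert, Finset.mem_singleton,
    not_or] at hk hl
  exact ⟨i, j, k, l, hij', hkl, Ne.symm hk.1, Ne.symm hl.1, Ne.symm hk.2, Ne.symm hl.2, hij, he⟩

theorem exists_even_perm_pair {i j a b : Fin 7} (hij : i ≠ j) (hab : a ≠ b) :
    ∃ σ : Perm (Fin 7), Perm.sign σ = 1 ∧ σ i = a ∧ σ j = b := by
  let σ₁ : Perm (Fin 7) := swap (swap i a j) b * swap i a
  have h1i : σ₁ i = a := by
    simp only [σ₁, Perm.mul_apply, swap_apply_left]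
    refine swap_apply_of_ne_of_ne (fun h => hij ?_) hab
    exact (Equiv.injective (swap i a)) ((swap_apply_left i a).trans h)
  have h1j : σ₁ j = b := by simp only [σ₁, Perm.mul_apply, swap_apply_left]
  rcases Int.units_eq_one_or (Perm.sign σ₁) with h | h
  · exact ⟨σ₁, h, h1i, h1j⟩
  · obtain ⟨p, hp, q, hq, hpq⟩ : ∃ p ∈ ((Finset.univ : Finset (Fin 7)) \ {a, b}),
        ∃ q ∈ ((Finset.univ : Finset (Fin 7)) \ {a, b}), p ≠ q :=
      Finset.one_lt_card.mp (by
        rw [Finset.card_sdiff_of_subset (Finset.subset_univ _), Finset.card_pair hab]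
        decide)
    simp only [Finset.mem_sdiff, Finset.mem_univ, true_and, Finset.mem_insert, Finset.mem_singleton,
      not_or] at hp hq
    refine ⟨swap p q * σ₁, by rw [map_mul, h, Perm.sign_swap hpq]; decide, ?_, ?_⟩
    · rw [Perm.mul_apply, h1i, swap_apply_of_ne_of_ne (Ne.symm hp.1) (Ne.symm hq.1)]
    · rw [Perm.mul_apply, h1j, swap_apply_of_ne_of_ne (Ne.symm hp.2) (Ne.symm hq.2)]

theorem eq_prod_pairSgn : ∀ ε : Sgn, ∏ i, ε i = 1 →
    ε = ((List.finRange 6).filter fun i : Fin 6 => decide (ε i.castSucc = -1)).foldr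
      (fun i δ => pairSgn i.castSucc 6 * δ) 1 := by
  decide +kernel

end CfsgLib.OmegaSeven
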