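import Cfsg.Agent.Lib.Orth.OddInvolutions
import Cfsg.Agent.Lib.OmegaSeven.Comb

/-!
Orthogonal frames of seven vectors of value `-1` and the monomial elements of `Ω₇(q)` attached to them,
when `2` is not a square.
-/

set_option autoImplicit false
set_option linter.unusedSectionVars false

namespace CfsgLib.OmegaSeven

open Equiv QuadraticMap CfsgLib.Orth Cfsg.Agent.Spinor57

variable {F : Type*} [Field F] [Fintype F] {ι : Type} [Fintype ι] [DecidableEq ι]

/-- Seven pairwise orthogonal vectors of value `-1` spanning the space, with `2` not a square. -/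
structure Frame (Q : QuadraticForm F (ι → F)) where
  b : Fin 7 → (ι → F)
  val : ∀ i, Q (b i) = -1
  orth : ∀ i j, i ≠ j → polar Q (b i) (b j) = 0
  dim : Fintype.card ι = 7
  nonsq : ¬ IsSquare (2 : F)

/-- A sign as a scalar. -/
def sgnF (u : ℤˣ) : F := ((u : ℤ) : F)

theorem sgnF_one : sgnF (1 : ℤˣ) = (1 : F) := by simp [sgnF]

theorem sgnF_neg_one : sgnF (-1 : ℤˣ) = (-1 : F) := by simp [sgnF]

theorem sgnF_mul (u v : ℤˣ) : (sgnF (u * v) : F) = sgnF u * sgnF v := by simp [sgnF]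

theorem sgnF_sq (u : ℤˣ) : (sgnF u : F) * sgnF u = 1 := by
  rw [← sgnF_mul, Int.units_mul_self, sgnF_one]

namespace Frame

variable {Q : QuadraticForm F (ι → F)} (Φ : Frame Q)

include Φ in
theorem two_ne : (2 : F) ≠ 0 := fun h => Φ.nonsq (h ▸ IsSquare.zero)

include Φ in
theorem neg_one_ne_one : (-1 : F) ≠ 1 := fun h => Φ.two_ne (by linear_combination (-1 : F) * h)

theorem val_ne (i : Fin 7) : Q (Φ.b i) ≠ 0 := by rw [Φ.val]; simp

theorem polar_b (i j : Fin 7) : polar Q (Φ.b i) (Φ.b j) = if i = j then -2 else 0 := by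
  split_ifs with h
  · subst h; rw [polar_self', Φ.val]; ring
  · exact Φ.orth i j h

theorem li : LinearIndependent F Φ.b := by
  refine LinearMap.BilinForm.linearIndependent_of_iIsOrtho (B := Q.polarBilin)
    (LinearMap.BilinForm.iIsOrtho_def.2 fun i j hij => Φ.orth i j hij) fun i => ?_
  change ¬ polar Q (Φ.b i) (Φ.b i) = 0
  rw [polar_self', Φ.val]
  exact mul_ne_zero Φ.two_ne (by simp)

/-- The frame as a basis. -/
noncomputable def basis : Module.Basis (Fin 7) F (ι → F) :=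
  basisOfLinearIndependentOfCardEqFinrank Φ.li
    (by rw [Fintype.card_fin, Module.finrank_fintype_fun_eq_card, Φ.dim])

@[simp] theorem coe_basis : ⇑Φ.basis = Φ.b := coe_basisOfLinearIndependentOfCardEqFinrank _ _

theorem polar_sum (c : Fin 7 → F) (j : Fin 7) : polar Q (∑ i, c i • Φ.b i) (Φ.b j) = -2 * c j := by
  rw [← polarBilin_apply_apply, map_sum, LinearMap.sum_apply, Finset.sum_eq_single j]
  · simp [Φ.polar_b, mul_comm]
  · intro i _ hi; simp [Φ.orth i j hi]
  · simp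

theorem Q_sum (c : Fin 7 → F) : Q (∑ i, c i • Φ.b i) = -∑ i, c i ^ 2 := by
  apply mul_left_cancel₀ Φ.two_ne
  rw [← polar_self', ← polarBilin_apply_apply, map_sum, mul_neg, Finset.mul_sum,
    ← Finset.sum_neg_distrib]
  refine Finset.sum_congr rfl fun j _ => ?_
  rw [map_smul, polarBilin_apply_apply, Φ.polar_sum, smul_eq_mul]
  ring

include Φ in
theorem qdeg : Q.polarBilin.Nondegenerate := by
  have key : ∀ x, (∀ y, polar Q x y = 0) → x = 0 := fun x hx => by
    have h := Φ.basis.sum_repr x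
    rw [← h, Finset.sum_eq_zero]
    intro j _
    have h2 := hx (Φ.b j)
    rw [← h, coe_basis, Φ.polar_sum] at h2
    rw [(mul_eq_zero.1 h2).resolve_left (neg_ne_zero.2 Φ.two_ne), zero_smul]
  exact ⟨key, fun y hy => key y fun x => by rw [polar_comm]; exact hy x⟩

theorem ext {g h : O Q} (H : ∀ i, app g (Φ.b i) = app h (Φ.b i)) : g = h :=
  ext_app fun x => LinearMap.congr_fun (Φ.basis.ext fun i => by rw [coe_basis]; exact H i) x

/-- The monomial linear map. -/
noncomputable def monMap (ε : Sgn) (σ : Perm (Fin 7)) : (ι → F) →ₗ[F] (ι → F) :=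
  Φ.basis.constr F fun i => (sgnF (ε (σ i)) : F) • Φ.b (σ i)

theorem monMap_b (ε : Sgn) (σ : Perm (Fin 7)) (i : Fin 7) :
    Φ.monMap ε σ (Φ.b i) = (sgnF (ε (σ i)) : F) • Φ.b (σ i) := by
  simp only [monMap, ← Φ.coe_basis, Module.Basis.constr_basis]

theorem monMap_comp (ε δ : Sgn) (σ τ : Perm (Fin 7)) :
    (Φ.monMap ε σ).comp (Φ.monMap δ τ) = Φ.monMap (ε * moveSgn σ δ) (σ * τ) :=
  Φ.basis.ext fun i => by
    simp only [coe_basis, LinearMap.comp_apply, monMap_b, map_smul, smul_smul, Pi.mul_apply, sgnF_mul,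
      Perm.mul_apply, moveSgn, Equiv.symm_apply_apply]
    rw [mul_comm]

theorem monMap_one : Φ.monMap 1 1 = LinearMap.id :=
  Φ.basis.ext fun i => by simp [monMap_b, sgnF_one]

theorem Q_monMap (ε : Sgn) (σ : Perm (Fin 7)) (x : ι → F) : Q (Φ.monMap ε σ x) = Q x := by
  obtain ⟨c, rfl⟩ : ∃ c : Fin 7 → F, x = ∑ i, c i • Φ.b i :=
    ⟨Φ.basis.repr x, by conv_lhs => rw [← Φ.basis.sum_repr x]; simp⟩
  have h : Φ.monMap ε σ (∑ i, c i • Φ.b i) = ∑ j, (c (σ.symm j) * sgnF (ε j)) • Φ.b j := by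
    rw [map_sum, ← Equiv.sum_comp σ (fun j => (c (σ.symm j) * sgnF (ε j)) • Φ.b j)]
    exact Finset.sum_congr rfl fun i _ => by rw [map_smul, monMap_b, smul_smul, Equiv.symm_apply_apply]
  rw [h, Q_sum, Q_sum, neg_inj, ← Equiv.sum_comp σ.symm (fun i => c i ^ 2)]
  exact Finset.sum_congr rfl fun j _ => by linear_combination c (σ.symm j) ^ 2 * sgnF_sq (F := F) (ε j)

/-- The monomial isometry. -/
noncomputable def mon (ε : Sgn) (σ : Perm (Fin 7)) : O Q :=
  mkO (Φ.monMap ε σ) (Φ.monMap (moveSgn σ⁻¹ ε⁻¹) σ⁻¹)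
    (by rw [monMap_comp, moveSgn_mul, mul_inv_cancel, moveSgn_one, mul_inv_cancel, monMap_one])
    (by rw [monMap_comp, inv_mul_cancel, moveSgn_inv, inv_mul_cancel, monMap_one])
    (Φ.Q_monMap ε σ)

theorem app_mon (ε : Sgn) (σ : Perm (Fin 7)) (i : Fin 7) :
    app (Φ.mon ε σ) (Φ.b i) = (sgnF (ε (σ i)) : F) • Φ.b (σ i) :=
  (app_mkO _ _ _ _ _ _).trans (Φ.monMap_b ε σ i)

theorem mon_mul (ε δ : Sgn) (σ τ : Perm (Fin 7)) :
    Φ.mon ε σ * Φ.mon δ τ = Φ.mon (ε * moveSgn σ δ) (σ * τ) :=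
  Φ.ext fun i => by
    rw [app_mul, app_mon, map_smul, app_mon, app_mon, smul_smul, Perm.mul_apply, Pi.mul_apply, sgnF_mul,
      moveSgn, Equiv.symm_apply_apply, mul_comm]

theorem mon_one : Φ.mon 1 1 = 1 := Φ.ext fun i => by simp [app_mon, sgnF_one]

theorem mon_inv (ε : Sgn) (σ : Perm (Fin 7)) : (Φ.mon ε σ)⁻¹ = Φ.mon (moveSgn σ⁻¹ ε⁻¹) σ⁻¹ :=
  inv_eq_of_mul_eq_one_right (by rw [mon_mul, moveSgn_mul, mul_inv_cancel, moveSgn_one, mul_inv_cancel,
    mon_one])

theorem mon_injective {ε δ : Sgn} {σ τ : Perm (Fin 7)} (h : Φ.mon ε σ = Φ.mon δ τ) : ε = δ ∧ σ = τ := by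
  have h1 : ∀ i, (sgnF (ε (σ i)) : F) • Φ.b (σ i) = (sgnF (δ (τ i)) : F) • Φ.b (τ i) := fun i => by
    rw [← app_mon, ← app_mon, h]
  have hne : ∀ u : ℤˣ, (sgnF u : F) ≠ 0 := fun u h0 => by
    have := sgnF_sq (F := F) u
    rw [h0, mul_zero] at this
    exact zero_ne_one this
  have hσ : σ = τ := Equiv.ext fun i => by
    by_contra hne'
    have := congrArg (fun v => polar Q v (Φ.b (σ i))) (h1 i)
    simp only [polar_smul_left, Φ.polar_b, if_true, if_neg (Ne.symm hne'), smul_eq_mul, mul_zero] at this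
    exact mul_ne_zero (hne _) (neg_ne_zero.2 Φ.two_ne) this
  subst hσ
  refine ⟨funext fun j => ?_, rfl⟩
  have := congrArg (fun v => polar Q v (Φ.b j)) (h1 (σ.symm j))
  simp only [Equiv.apply_symm_apply, polar_smul_left, Φ.polar_b, if_true, smul_eq_mul] at this
  have h2 := mul_right_cancel₀ (neg_ne_zero.2 Φ.two_ne) this
  rcases Int.units_eq_one_or (ε j) with e | e <;> rcases Int.units_eq_one_or (δ j) with e' | e' <;>
    rw [e, e'] at h2 ⊢ <;> simp only [sgnF_one, sgnF_neg_one] at h2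
  · exact absurd h2.symm Φ.neg_one_ne_one
  · exact absurd h2 Φ.neg_one_ne_one

/-- The sign part as a homomorphism. -/
noncomputable def diagHom : Sgn →* O Q where
  toFun ε := Φ.mon ε 1
  map_one' := Φ.mon_one
  map_mul' ε δ := by rw [mon_mul, moveSgn_one, one_mul]

/-- The permutation part as a homomorphism. -/
noncomputable def permHom : Perm (Fin 7) →* O Q where
  toFun σ := Φ.mon 1 σ
  map_one' := Φ.mon_one
  map_mul' σ τ := by
    rw [mon_mul, one_mul]
    rfl

theorem mon_eq (ε : Sgn) (σ : Perm (Fin 7)) : Φ.mon ε σ = Φ.diagHom ε * Φ.permHom σ := by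
  show _ = Φ.mon ε 1 * Φ.mon 1 σ
  rw [mon_mul, moveSgn_one, mul_one, one_mul]

theorem refl_b (i : Fin 7) : refl Q (Φ.b i) = Φ.diagHom (Pi.mulSingle i (-1)) :=
  Φ.ext fun k => by
    show _ = app (Φ.mon _ 1) (Φ.b k)
    rw [app_mon, Perm.one_apply]
    rcases eq_or_ne k i with rfl | hk
    · rw [Pi.mulSingle_eq_same, sgnF_neg_one, neg_one_smul, app_refl_self (Φ.val_ne k)]
    · rw [Pi.mulSingle_eq_of_ne hk, sgnF_one, one_smul, app_refl_of_ortho (Φ.orth k i hk)]

theorem Q_sub {i j : Fin 7} (h : i ≠ j) : Q (Φ.b i - Φ.b j) = -2 := by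
  rw [sub_eq_add_neg, QuadraticMap.map_add ⇑Q, QuadraticMap.map_neg, polar_neg_right, Φ.orth i j h,
    Φ.val, Φ.val]
  ring

theorem refl_sub {i j : Fin 7} (h : i ≠ j) : refl Q (Φ.b i - Φ.b j) = Φ.permHom (swap i j) :=
  Φ.ext fun k => by
    show _ = app (Φ.mon 1 _) (Φ.b k)
    have h2 := Φ.two_ne
    rw [app_mon, Pi.one_apply, sgnF_one, one_smul, app_refl, Φ.Q_sub h, polar_sub_right, Φ.polar_b,
      Φ.polar_b]
    rcases eq_or_ne k i with rfl | hki
    · rw [if_pos rfl, if_neg h, swap_apply_left, sub_zero, inv_mul_cancel₀ (neg_ne_zero.2 h2), one_smul]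
      abel
    · rcases eq_or_ne k j with rfl | hkj
      · rw [if_neg hki, if_pos rfl, swap_apply_right, zero_sub,
          show (-2 : F)⁻¹ * - -2 = -1 by field_simp, neg_one_smul]
        abel
      · rw [if_neg hki, if_neg hkj, swap_apply_of_ne_of_ne hki hkj, sub_zero, mul_zero, zero_smul, sub_zero]

include Φ in
theorem sqSign_neg_two : sqSign (-2 : F) = -sqSign (-1 : F) := by
  classical
  rw [show (-2 : F) = -1 * 2 by ring, sqSign_mul (by simp) Φ.two_ne]
  have : sqSign (2 : F) = -1 := by unfold sqSign; rw [if_neg Φ.nonsq]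
  rw [this, mul_neg_one]

/-- The two characters on monomial elements. -/
theorem chiPair_mon [DecidableEq F] (ε : Sgn) (σ : Perm (Fin 7)) :
    chiPair Q (2 : F) (Φ.mon ε σ) =
      (if ∏ i, ε i = 1 then 1 else (-sqSign (-1 : F), sqSign (-1 : F))) *
      (if Perm.sign σ = 1 then 1 else (sqSign (-1 : F), -sqSign (-1 : F))) := by
  have h1 : (chiPair Q (2 : F)).comp Φ.diagHom =
      ({ toFun := fun u : ℤˣ => if u = 1 then 1 else (-sqSign (-1 : F), sqSign (-1 : F))
         map_one' := by simp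
         map_mul' := by
          intro u v
          rcases Int.units_eq_one_or (sqSign (-1 : F)) with e | e <;> rw [e] <;> revert u v <;> decide } :
        ℤˣ →* ℤˣ × ℤˣ).comp
      ({ toFun := fun ε : Sgn => ∏ i, ε i
         map_one' := by simp
         map_mul' := fun ε δ => Finset.prod_mul_distrib } : Sgn →* ℤˣ) := by
    refine MonoidHom.functions_ext _ _ _ fun i x => ?_
    rcases Int.units_eq_one_or x with rfl | rfl
    · rw [Pi.mulSingle_one, map_one, map_one]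
    · simp only [MonoidHom.comp_apply, ← Φ.refl_b, MonoidHom.coe_mk, OneHom.coe_mk]
      rw [chiPair_refl' Φ.two_ne Φ.nonsq (Φ.val_ne i), Φ.val, Fintype.prod_pi_mulSingle', if_neg (by decide)]
  have h2 : ∀ τ : Perm (Fin 7), chiPair Q (2 : F) (Φ.permHom τ) =
      if Perm.sign τ = 1 then 1 else (sqSign (-1 : F), -sqSign (-1 : F)) := by
    intro τ
    induction τ using Equiv.Perm.swap_induction_on with
    | one => simp
    | swap_mul f x y hxy ih =>
      rw [map_mul, map_mul, ih, ← Φ.refl_sub hxy, chiPair_refl' Φ.two_ne Φ.nonsq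
        (by rw [Φ.Q_sub hxy]; exact neg_ne_zero.2 Φ.two_ne), Φ.Q_sub hxy, Φ.sqSign_neg_two, map_mul,
        Perm.sign_swap hxy, neg_neg]
      rcases Int.units_eq_one_or (Perm.sign f) with e | e <;>
        rcases Int.units_eq_one_or (sqSign (-1 : F)) with e' | e' <;> rw [e, e'] <;> decide
  rw [mon_eq, map_mul, h2]
  exact congrArg (· * _) (DFunLike.congr_fun h1 ε)

/-- Membership of a monomial element in `Ω`. -/
theorem mon_mem_iff (ε : Sgn) (σ : Perm (Fin 7)) :
    Φ.mon ε σ ∈ Cfsg.Omega F ⇑Q ↔ ∏ i, ε i = 1 ∧ Perm.sign σ = 1 := by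
  classical
  rw [CfsgLib.OrthOmega.mem_omega_odd Φ.qdeg Φ.two_ne Φ.nonsq, chiPair_mon]
  rcases Int.units_eq_one_or (∏ i, ε i) with e | e <;> rcases Int.units_eq_one_or (Perm.sign σ) with f | f <;>
    rcases Int.units_eq_one_or (sqSign (-1 : F)) with a | a <;> rw [e, f, a] <;> decide

/-- The image of a frame under an isometry. -/
noncomputable def map (g : O Q) : Frame Q where
  b i := app g (Φ.b i)
  val i := by rw [Q_app, Φ.val]
  orth i j h := by rw [polar_app, Φ.orth i j h]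
  dim := Φ.dim
  nonsq := Φ.nonsq

theorem mon_map (g : O Q) (ε : Sgn) (σ : Perm (Fin 7)) :
    (Φ.map g).mon ε σ = g * Φ.mon ε σ * g⁻¹ :=
  (Φ.map g).ext fun i => by
    rw [app_mon]
    show (sgnF (ε (σ i)) : F) • app g (Φ.b (σ i)) = app (g * Φ.mon ε σ * g⁻¹) (app g (Φ.b i))
    rw [app_mul, app_mul, app_inv_app, app_mon, map_smul]

end Frame

/-- A frame for `x₀² + x₁y₁ + x₂y₂ + x₃y₃`. -/
theorem exists_frame (hq : Fintype.card F % 8 = 3 ∨ Fintype.card F % 8 = 5) :
    Nonempty (Frame (qOdd 3 F)) := by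
  have hns : ¬ IsSquare (2 : F) := by rw [FiniteField.isSquare_two_iff]; omega
  have h2 : (2 : F) ≠ 0 := fun h => hns (h ▸ IsSquare.zero)
  haveI : NeZero (ringChar F) := ⟨CharP.char_ne_zero_of_finite F _⟩
  obtain ⟨s, t, hst⟩ := CharP.sq_add_sq F (ringChar F) (-1 : ℤ)
  push_cast at hst
  have hst' : (s : F) ^ 2 + (t : F) ^ 2 = -1 := by exact_mod_cast hst
  clear hst
  let p : Fin 4 → (Unit ⊕ (Fin 3 ⊕ Fin 3) → F) := fun i => OrthOddInv.vec F 3 (.inl i)
  let m : Fin 3 → (Unit ⊕ (Fin 3 ⊕ Fin 3) → F) := fun i => OrthOddInv.vec F 3 (.inr i)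
  have hp : ∀ i, qOdd 3 F (p i) = 1 := fun i => (OrthOddInv.Q_vec _).trans rfl
  have hm : ∀ i, qOdd 3 F (m i) = -1 := fun i => (OrthOddInv.Q_vec _).trans rfl
  have hpp : ∀ i j, i ≠ j → polar (qOdd 3 F) (p i) (p j) = 0 := fun i j h =>
    OrthOddInv.polar_vec _ _ (by simpa using h)
  have hpm : ∀ i j, polar (qOdd 3 F) (p i) (m j) = 0 := fun i j => OrthOddInv.polar_vec _ _ (by simp)
  have hmp : ∀ i j, polar (qOdd 3 F) (m j) (p i) = 0 := fun i j => OrthOddInv.polar_vec _ _ (by simp)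
  have hmm : ∀ i j, i ≠ j → polar (qOdd 3 F) (m i) (m j) = 0 := fun i j h =>
    OrthOddInv.polar_vec _ _ (by simpa using h)
  refine ⟨⟨![(s : F) • p 0 + (t : F) • p 1, (t : F) • p 0 + (-(s : F)) • p 1,
    (s : F) • p 2 + (t : F) • p 3, (t : F) • p 2 + (-(s : F)) • p 3, m 0, m 1, m 2], ?_, ?_, by simp, hns⟩⟩
  · intro i
    fin_cases i <;>
      simp [QuadraticMap.map_add (qOdd 3 F), QuadraticMap.map_smul, polar_smul_left, polar_smul_right, hp,
        hm, hpp] <;>
      linear_combination hst'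
  · intro i j h
    fin_cases i <;> fin_cases j <;>
      first
      | exact absurd rfl h
      | (simp [polar_add_left, polar_add_right, polar_smul_left, polar_smul_right, hpp, hpm, hmp, hmm,
          polar_self', hp] <;> ring)

end CfsgLib.OmegaSeven
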