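import Cfsg.Agent.Lib.OmegaSeven.Frame
import Cfsg.Agent.Lib.Fusion.Simple
import Cfsg.Agent.Lib.Fusion.Aut

/-!
The monomial Sylow 2-subgroup `2^6 : D₈` of `Ω₇(q)`, `q ≡ ±3 mod 8`: it is self-normalizing and has
no proper nontrivial strongly closed subgroup.
-/

set_option autoImplicit false
set_option linter.unusedSectionVars false

namespace CfsgLib.OmegaSeven

open Equiv QuadraticMap CfsgLib.Orth Cfsg.Agent.Spinor57
open Cfsg Cfsg.FusionSystem

variable {F : Type*} [Field F] [Fintype F] {ι : Type} [Fintype ι] [DecidableEq ι]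
  {Q : QuadraticForm F (ι → F)}

namespace Frame

variable (Φ : Frame Q)

/-- An even monomial element in `Ω`. -/
noncomputable def el (ε : Sgn) (σ : Perm (Fin 7)) (hε : ∏ i, ε i = 1) (hσ : Perm.sign σ = 1) :
    ↥(Cfsg.Omega F ⇑Q) :=
  ⟨Φ.mon ε σ, (Φ.mon_mem_iff ε σ).mpr ⟨hε, hσ⟩⟩

theorem prod_move_mul {ε δ : Sgn} (hε : ∏ i, ε i = 1) (hδ : ∏ i, δ i = 1) (σ : Perm (Fin 7)) :
    ∏ i, (ε * moveSgn σ δ) i = 1 := by
  rw [show ∏ i, (ε * moveSgn σ δ) i = (∏ i, ε i) * ∏ i, moveSgn σ δ i from Finset.prod_mul_distrib,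
    prod_moveSgn, hε, hδ, one_mul]

theorem prod_move_inv {ε : Sgn} (hε : ∏ i, ε i = 1) (σ : Perm (Fin 7)) :
    ∏ i, moveSgn σ ε⁻¹ i = 1 := by
  rw [prod_moveSgn, show ∏ i, ε⁻¹ i = (∏ i, ε i)⁻¹ from Finset.prod_inv_distrib _, hε, inv_one]

/-- The diagonal subgroup. -/
noncomputable def diag : Subgroup ↥(Cfsg.Omega F ⇑Q) where
  carrier := {g | ∃ ε : Sgn, ∏ i, ε i = 1 ∧ (g : O Q) = Φ.mon ε 1}
  one_mem' := ⟨1, by simp, Φ.mon_one.symm⟩
  mul_mem' := by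
    rintro x y ⟨ε, hε, hx⟩ ⟨δ, hδ, hy⟩
    exact ⟨ε * moveSgn 1 δ, prod_move_mul hε hδ 1, by rw [Subgroup.coe_mul, hx, hy, mon_mul, one_mul]⟩
  inv_mem' := by
    rintro x ⟨ε, hε, hx⟩
    exact ⟨moveSgn 1⁻¹ ε⁻¹, prod_move_inv hε _, by rw [Subgroup.coe_inv, hx, mon_inv, inv_one]⟩

/-- The monomial 2-subgroup. -/
noncomputable def syl : Subgroup ↥(Cfsg.Omega F ⇑Q) where
  carrier := {g | ∃ ε σ, ∏ i, ε i = 1 ∧ σ ∈ D8 ∧ (g : O Q) = Φ.mon ε σ}
  one_mem' := ⟨1, 1, by simp, D8.one_mem, Φ.mon_one.symm⟩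
  mul_mem' := by
    rintro x y ⟨ε, σ, hε, hσ, hx⟩ ⟨δ, τ, hδ, hτ, hy⟩
    exact ⟨ε * moveSgn σ δ, σ * τ, prod_move_mul hε hδ σ, mul_mem hσ hτ,
      by rw [Subgroup.coe_mul, hx, hy, mon_mul]⟩
  inv_mem' := by
    rintro x ⟨ε, σ, hε, hσ, hx⟩
    exact ⟨moveSgn σ⁻¹ ε⁻¹, σ⁻¹, prod_move_inv hε _, inv_mem hσ,
      by rw [Subgroup.coe_inv, hx, mon_inv]⟩

theorem diag_le_syl : Φ.diag ≤ Φ.syl := fun _ ⟨ε, hε, hg⟩ => ⟨ε, 1, hε, D8.one_mem, hg⟩

theorem el_mem_diag (ε : Sgn) (hε : ∏ i, ε i = 1) : Φ.el ε 1 hε (map_one _) ∈ Φ.diag := ⟨ε, hε, rfl⟩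

theorem conj_diag (ε δ : Sgn) (σ : Perm (Fin 7)) :
    Φ.mon ε σ * Φ.mon δ 1 * (Φ.mon ε σ)⁻¹ = Φ.mon (moveSgn σ δ) 1 := by
  rw [mul_inv_eq_iff_eq_mul, mon_mul, mon_mul, moveSgn_one, mul_one, one_mul, mul_comm]

theorem diag_normal {g x : ↥(Cfsg.Omega F ⇑Q)} {ε : Sgn} {σ : Perm (Fin 7)}
    (hg : (g : O Q) = Φ.mon ε σ) (hx : x ∈ Φ.diag) : g * x * g⁻¹ ∈ Φ.diag := by
  obtain ⟨δ, hδ, hx⟩ := hx
  exact ⟨moveSgn σ δ, by rw [prod_moveSgn, hδ],
    by rw [Subgroup.coe_mul, Subgroup.coe_mul, Subgroup.coe_inv, hg, hx, conj_diag]⟩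

theorem card_diag : Nat.card Φ.diag = 64 := by
  classical
  let f : {ε : Sgn // ∏ i, ε i = 1} → Φ.diag := fun ε => ⟨Φ.el ε.1 1 ε.2 (map_one _), Φ.el_mem_diag _ ε.2⟩
  have hf : Function.Bijective f := by
    refine ⟨fun a b h => Subtype.ext ?_, fun x => ?_⟩
    · exact (Φ.mon_injective (congrArg (fun y : Φ.diag => ((y : ↥(Cfsg.Omega F ⇑Q)) : O Q)) h)).1
    · obtain ⟨x, ε, hε, hx⟩ := x
      exact ⟨⟨ε, hε⟩, Subtype.ext (Subtype.ext hx.symm)⟩
  rw [← Nat.card_congr (Equiv.ofBijective f hf), Nat.card_eq_fintype_card, Fintype.card_subtype]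
  exact card_sgn

theorem card_syl : Nat.card Φ.syl = 512 := by
  classical
  let f : {ε : Sgn // ∏ i, ε i = 1} × D8 → Φ.syl := fun p =>
    ⟨Φ.el p.1.1 p.2.1 p.1.2 (sign_D8 p.2.2), p.1.1, p.2.1, p.1.2, p.2.2, rfl⟩
  have hf : Function.Bijective f := by
    refine ⟨fun a b h => ?_, fun x => ?_⟩
    · obtain ⟨h1, h2⟩ := Φ.mon_injective (congrArg (fun y : Φ.syl => ((y : ↥(Cfsg.Omega F ⇑Q)) : O Q)) h)
      exact Prod.ext (Subtype.ext h1) (Subtype.ext h2)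
    · obtain ⟨x, ε, σ, hε, hσ, hx⟩ := x
      exact ⟨(⟨ε, hε⟩, ⟨σ, hσ⟩), Subtype.ext (Subtype.ext hx.symm)⟩
  rw [← Nat.card_congr (Equiv.ofBijective f hf), Nat.card_prod, card_D8, Nat.card_eq_fintype_card,
    Fintype.card_subtype, card_sgn]

/-- An element normalizing the diagonal subgroup is monomial. -/
theorem exists_mon {g : ↥(Cfsg.Omega F ⇑Q)} (hg : ∀ a ∈ Φ.diag, g⁻¹ * a * g ∈ Φ.diag) :
    ∃ ε σ, ∏ i, ε i = 1 ∧ Perm.sign σ = 1 ∧ (g : O Q) = Φ.mon ε σ := by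
  classical
  have hline : ∀ i, ∃ j u, app (g : O Q) (Φ.b i) = (sgnF u : F) • Φ.b j := by
    intro i
    set x := app (g : O Q) (Φ.b i) with hx
    have heig : ∀ δ : Sgn, ∏ i, δ i = 1 → ∃ u : ℤˣ, app (Φ.mon δ 1) x = (sgnF u : F) • x := by
      intro δ hδ
      obtain ⟨δ', -, hδ'⟩ := hg _ (Φ.el_mem_diag δ hδ)
      refine ⟨δ' i, ?_⟩
      have h : Φ.mon δ 1 * (g : O Q) = (g : O Q) * Φ.mon δ' 1 := by
        rw [← hδ']
        simp only [Subgroup.coe_mul, Subgroup.coe_inv, el]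
        group
      rw [hx, ← app_mul, h, app_mul, app_mon, Perm.one_apply, map_smul]
    set c := Φ.basis.repr x with hc
    have hsum : x = ∑ j, c j • Φ.b j := by
      conv_lhs => rw [← Φ.basis.sum_repr x]
      simp [hc]
    have hQ : Q x = -1 := by rw [hx, Q_app, Φ.val]
    obtain ⟨j, hj⟩ : ∃ j, c j ≠ 0 := by
      by_contra hcon
      push Not at hcon
      rw [hsum, Φ.Q_sum] at hQ
      simp [hcon] at hQ
    have hother : ∀ k, k ≠ j → c k = 0 := by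
      intro k hk
      by_contra hck
      obtain ⟨l, hlj, hlk⟩ : ∃ l, l ≠ j ∧ l ≠ k := by
        obtain ⟨l, hl⟩ := Finset.exists_mem_notMem_of_card_lt_card
          (s := ({j, k} : Finset (Fin 7))) (t := Finset.univ)
          (by rw [Finset.card_pair (Ne.symm hk), Finset.card_univ, Fintype.card_fin]; omega)
        simp only [Finset.mem_insert, Finset.mem_singleton, not_or] at hl
        exact ⟨l, hl.2.1, hl.2.2⟩
      obtain ⟨u, hu⟩ := heig (pairSgn j l) (prod_pairSgn (Ne.symm hlj))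
      have hcoef : ∀ m, c m * sgnF (pairSgn j l m) = sgnF u * c m := by
        intro m
        have h1 := congrArg (fun v => polar Q v (Φ.b m)) hu
        rw [hsum] at h1
        simp only [map_sum, map_smul, app_mon, Perm.one_apply, smul_smul, Finset.smul_sum, Φ.polar_sum] at h1
        exact mul_left_cancel₀ (neg_ne_zero.2 Φ.two_ne) h1
      have hj1 := hcoef j
      have hk1 := hcoef k
      rw [show pairSgn j l j = -1 by simp [pairSgn], sgnF_neg_one, mul_comm (c j)] at hj1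
      rw [show pairSgn j l k = 1 by simp [pairSgn, hk, Ne.symm hlk], sgnF_one, mul_comm (c k)] at hk1
      exact Φ.neg_one_ne_one ((mul_right_cancel₀ hj hj1).trans (mul_right_cancel₀ hck hk1).symm)
    have hx1 : x = c j • Φ.b j := by
      rw [hsum, Finset.sum_eq_single j (fun k _ hk => by rw [hother k hk, zero_smul]) (by simp)]
    rw [hx1, QuadraticMap.map_smul, Φ.val, smul_eq_mul] at hQ
    have hsq : (c j - 1) * (c j + 1) = 0 := by linear_combination -hQ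
    rcases mul_eq_zero.1 hsq with h | h
    · exact ⟨j, 1, by rw [hx1, sub_eq_zero.1 h, sgnF_one]⟩
    · exact ⟨j, -1, by rw [hx1, eq_neg_of_add_eq_zero_left h, sgnF_neg_one]⟩
  choose τ u hu using hline
  have hinj : Function.Injective τ := by
    intro a b hab
    by_contra hne
    have h := polar_app (g : O Q) (Φ.b a) (Φ.b b)
    rw [hu, hu, hab, polar_smul_left, polar_smul_right, Φ.polar_b, if_pos rfl, Φ.orth a b hne] at h
    have hu0 : ∀ v : ℤˣ, (sgnF v : F) ≠ 0 := fun v hv => by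
      have := sgnF_sq (F := F) v
      rw [hv, mul_zero] at this
      exact zero_ne_one this
    simp only [smul_eq_mul, mul_eq_zero, neg_eq_zero, Φ.two_ne, hu0, or_self] at h
  let σ : Perm (Fin 7) := Equiv.ofBijective τ ⟨hinj, Finite.surjective_of_injective hinj⟩
  refine ⟨fun j => u (σ.symm j), σ, ?_⟩
  have hgm : (g : O Q) = Φ.mon (fun j => u (σ.symm j)) σ :=
    Φ.ext fun i => by rw [hu, app_mon, Equiv.symm_apply_apply]; rfl
  have hm := (Φ.mon_mem_iff _ _).mp (hgm ▸ g.2)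
  exact ⟨hm.1, hm.2, hgm⟩

theorem sgn_alg : ∀ p m a s r b : ℤˣ, p * m * a⁻¹ = s → r * m * b⁻¹ = s → a * b⁻¹ = p * r⁻¹ := by decide

theorem eq_one_of_moveSgn_fix {σ : Perm (Fin 7)}
    (h : ∀ δ : Sgn, ∏ i, δ i = 1 → moveSgn σ δ = δ) : σ = 1 := by
  by_contra hσ
  obtain ⟨i, hi⟩ : ∃ i, σ i ≠ i := by
    by_contra hc
    push Not at hc
    exact hσ (Equiv.ext hc)
  obtain ⟨l, -, hl⟩ := Finset.exists_mem_notMem_of_card_lt_card
    (s := ({i, σ i} : Finset (Fin 7))) (t := Finset.univ)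
    (by rw [Finset.card_pair (Ne.symm hi), Finset.card_univ, Fintype.card_fin]; omega)
  simp only [Finset.mem_insert, Finset.mem_singleton, not_or] at hl
  have := congrFun (h (pairSgn i l) (prod_pairSgn (Ne.symm hl.1))) (σ i)
  simp [moveSgn, pairSgn, hi, Ne.symm hl.2] at this

set_option maxHeartbeats 1000000 in
/-- The diagonal subgroup is the only elementary abelian subgroup of order `64`. -/
theorem eq_diag {B : Subgroup ↥(Cfsg.Omega F ⇑Q)} (hB : B ≤ Φ.syl) (hcomm : ∀ x ∈ B, ∀ y ∈ B, x * y = y * x)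
    (hexp : ∀ x ∈ B, x * x = 1) (hcard : Nat.card B = 64) : B = Φ.diag := by
  classical
  have hsplit : ∀ x : B, ∃ ε k, ∏ i, ε i = 1 ∧ ((x : ↥(Cfsg.Omega F ⇑Q)) : O Q) = Φ.mon ε (dperm k) := by
    intro x
    obtain ⟨ε, σ, hε, ⟨k, rfl⟩, hx⟩ := hB x.2
    exact ⟨ε, k, hε, hx⟩
  choose e π he hx using hsplit
  by_cases hall : ∀ x, dperm (π x) = 1
  · refine Subgroup.eq_of_le_of_card_ge (fun x hxB => ⟨e ⟨x, hxB⟩, he _, ?_⟩) (by rw [Φ.card_diag, hcard])
    exact (hx ⟨x, hxB⟩).trans (by rw [hall])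
  exfalso
  push Not at hall
  obtain ⟨x₀, hx₀⟩ := hall
  have hcompute : ∀ x y : B, dperm (π x) * dperm (π y) = dperm (π y) * dperm (π x) ∧
      e x * moveSgn (dperm (π x)) (e y) = e y * moveSgn (dperm (π y)) (e x) := by
    intro x y
    have h := congrArg Subtype.val (hcomm x.1 x.2 y.1 y.2)
    rw [Subgroup.coe_mul, Subgroup.coe_mul, hx, hx, mon_mul, mon_mul] at h
    exact ⟨(Φ.mon_injective h).2, (Φ.mon_injective h).1⟩
  have hinv : ∀ x : B, dperm (π x) * dperm (π x) = 1 ∧ e x * moveSgn (dperm (π x)) (e x) = 1 := by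
    intro x
    have h := congrArg Subtype.val (hexp x.1 x.2)
    rw [Subgroup.coe_mul, hx, mon_mul, OneMemClass.coe_one, ← Φ.mon_one] at h
    exact ⟨(Φ.mon_injective h).2, (Φ.mon_injective h).1⟩
  let fx : (Fin 2 × Fin 2 × Fin 2) → Finset Sgn := fun k =>
    Finset.univ.filter fun ε : Sgn => ∏ i, ε i = 1 ∧ moveSgn (dperm k) ε = ε
  let Fx := Finset.univ.filter fun ε : Sgn => ∏ i, ε i = 1 ∧ ∀ x, moveSgn (dperm (π x)) ε = ε
  have hfib : ∀ k ∈ (Finset.univ.image π : Finset (Fin 2 × Fin 2 × Fin 2)),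
      ({x | π x = k} : Finset B).card ≤ Fx.card := by
    intro k hk
    obtain ⟨x₁, -, rfl⟩ := Finset.mem_image.1 hk
    refine Finset.card_le_card_of_injOn (fun x => e x * (e x₁)⁻¹) (fun x hxk => ?_) ?_
    · simp only [Finset.coe_filter, Finset.mem_univ, true_and, Set.mem_setOf_eq] at hxk
      simp only [Fx, Finset.coe_filter, Finset.mem_univ, true_and, Set.mem_setOf_eq]
      refine ⟨?_, fun y => ?_⟩
      · rw [show ∏ i, (e x * (e x₁)⁻¹) i = (∏ i, e x i) * ∏ i, (e x₁)⁻¹ i from Finset.prod_mul_distrib,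
          show ∏ i, (e x₁)⁻¹ i = (∏ i, e x₁ i)⁻¹ from Finset.prod_inv_distrib _, he, he, inv_one, one_mul]
      · have h1 := (hcompute x y).2
        have h2 := (hcompute x₁ y).2
        rw [hxk] at h1
        rw [moveSgn_mul', moveSgn_inv]
        rw [← mul_inv_eq_iff_eq_mul] at h1 h2
        funext i
        have h1i := congrFun h1 i
        have h2i := congrFun h2 i
        simp only [Pi.mul_apply, Pi.inv_apply] at h1i h2i ⊢
        generalize moveSgn (dperm (π y)) (e x) i = a at *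
        generalize moveSgn (dperm (π y)) (e x₁) i = b at *
        generalize moveSgn (dperm (π x₁)) (e y) i = m at *
        generalize e x i = p at *
        generalize e x₁ i = r at *
        generalize e y i = s at *
        exact sgn_alg p m a s r b h1i h2i
    · intro x hxk y hyk hxy
      simp only [Finset.coe_filter, Finset.mem_univ, true_and, Set.mem_setOf_eq] at hxk hyk
      refine Subtype.ext (Subtype.ext ?_)
      rw [hx, hx, hxk, hyk, mul_right_cancel hxy]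
  have hle := Finset.card_le_mul_card_image (Finset.univ : Finset B) Fx.card
    (f := π) (fun k hk => hfib k hk)
  rw [Finset.card_univ, ← Nat.card_eq_fintype_card, hcard] at hle
  have hk0 : π x₀ ∈ (Finset.univ.image π : Finset _) := Finset.mem_image_of_mem _ (Finset.mem_univ _)
  by_cases htwo : ∃ x₁, dperm (π x₁) ≠ 1 ∧ π x₁ ≠ π x₀
  · obtain ⟨x₁, hx₁, hne⟩ := htwo
    have himg : (Finset.univ.image π).card ≤ 4 := by
      refine (Finset.card_le_card fun k hk => ?_).trans (card_comm_le (π x₁) (π x₀) hx₁ hx₀ hne)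
      obtain ⟨y, -, rfl⟩ := Finset.mem_image.1 hk
      simp only [Finset.mem_filter, Finset.mem_univ, true_and]
      exact ⟨(hinv y).1, (hcompute y x₁).1, (hcompute y x₀).1⟩
    have hF : Fx.card ≤ 8 := by
      refine (Finset.card_le_card fun ε hε => ?_).trans (card_fix_two_le (π x₁) (π x₀) hx₁ hx₀ hne
        (hinv x₁).1 (hinv x₀).1 (hcompute x₁ x₀).1)
      simp only [Fx, Finset.mem_filter, Finset.mem_univ, true_and] at hε ⊢
      exact ⟨hε.1, hε.2 x₁, hε.2 x₀⟩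
    have := Nat.mul_le_mul hF himg
    omega
  · push Not at htwo
    have himg : (Finset.univ.image π).card ≤ 2 := by
      refine (Finset.card_le_card (t := {π x₀, (0, 0, 0)}) fun k hk => ?_).trans Finset.card_le_two
      obtain ⟨y, -, rfl⟩ := Finset.mem_image.1 hk
      rw [Finset.mem_insert, Finset.mem_singleton]
      by_cases h1 : dperm (π y) = 1
      · exact Or.inr (dperm_injective (h1.trans (by decide +kernel)))
      · exact Or.inl (htwo y h1)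
    have hF : Fx.card ≤ 16 := by
      refine (Finset.card_le_card fun ε hε => ?_).trans (card_fix_le (π x₀) hx₀)
      simp only [Fx, Finset.mem_filter, Finset.mem_univ, true_and] at hε ⊢
      exact ⟨hε.1, hε.2 x₀⟩
    have := Nat.mul_le_mul hF himg
    omega

/-- The monomial 2-subgroup is its own normalizer. -/
theorem mem_syl_of_normalize {g : ↥(Cfsg.Omega F ⇑Q)} (hg : ∀ x ∈ Φ.syl, g⁻¹ * x * g ∈ Φ.syl) :
    g ∈ Φ.syl := by
  classical
  let f := (MulAut.conj g⁻¹).toMonoidHom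
  have hB : Φ.diag.map f = Φ.diag := by
    refine Φ.eq_diag ?_ ?_ ?_ ?_
    · rintro _ ⟨a, ha, rfl⟩
      simpa [f] using hg a (Φ.diag_le_syl ha)
    · rintro _ ⟨a, ⟨ε, hε, ha⟩, rfl⟩ _ ⟨b, ⟨δ, hδ, hb⟩, rfl⟩
      have hab : a * b = b * a := Subtype.ext (by
        rw [Subgroup.coe_mul, Subgroup.coe_mul, ha, hb, mon_mul, mon_mul, moveSgn_one, moveSgn_one, mul_comm ε])
      rw [← map_mul f, ← map_mul f, hab]
    · rintro _ ⟨a, ⟨ε, hε, ha⟩, rfl⟩
      have haa : a * a = 1 := Subtype.ext (by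
        rw [Subgroup.coe_mul, ha, mon_mul, moveSgn_one, one_mul, OneMemClass.coe_one, ← Φ.mon_one]
        congr 1
        exact funext fun i => Int.units_mul_self _)
      rw [← map_mul f, haa, map_one]
    · rw [← Nat.card_congr (Subgroup.equivMapOfInjective _ f (MulAut.conj g⁻¹).injective).toEquiv, Φ.card_diag]
  obtain ⟨ε, σ, hε, hσ, hgm⟩ := Φ.exists_mon (g := g) fun a ha => by
    rw [← hB]
    exact ⟨a, ha, by simp [f]⟩
  refine ⟨ε, σ, hε, mem_D8_of_normalize hσ fun d hd => ?_, hgm⟩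
  -- compare permutation parts of conjugates
  have hback : ∀ x ∈ Φ.syl, g * x * g⁻¹ ∈ Φ.syl := by
    intro x hxS
    have hmap : Φ.syl.map f = Φ.syl := by
      refine Subgroup.eq_of_le_of_card_ge (by rintro _ ⟨a, ha, rfl⟩; simpa [f] using hg a ha) ?_
      rw [← Nat.card_congr (Subgroup.equivMapOfInjective _ f (MulAut.conj g⁻¹).injective).toEquiv]
    rw [← hmap] at hxS
    obtain ⟨y, hy, rfl⟩ := hxS
    simpa [f, mul_assoc] using hy
  obtain ⟨δ, τ, -, hτ, hm⟩ := hback (Φ.el 1 d (by simp) (sign_D8 hd)) ⟨1, d, by simp, hd, rfl⟩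
  rw [Subgroup.coe_mul, Subgroup.coe_mul, Subgroup.coe_inv, hgm, mon_inv] at hm
  simp only [el, mon_mul] at hm
  rw [(Φ.mon_injective hm).2]
  exact hτ

/-- The monomial 2-subgroup is a Sylow subgroup. -/
theorem syl_eq_of_le {P : Sylow 2 ↥(Cfsg.Omega F ⇑Q)} (h : Φ.syl ≤ (P : Subgroup ↥(Cfsg.Omega F ⇑Q))) :
    Φ.syl = (P : Subgroup ↥(Cfsg.Omega F ⇑Q)) := by
  have : Fact (Nat.Prime 2) := ⟨Nat.prime_two⟩
  have : Group.IsNilpotent (P : Subgroup ↥(Cfsg.Omega F ⇑Q)) := P.isPGroup'.isNilpotent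
  by_contra hne
  let H : Subgroup (P : Subgroup ↥(Cfsg.Omega F ⇑Q)) := Φ.syl.subgroupOf P
  have hH : H < ⊤ := by
    rw [lt_top_iff_ne_top]
    intro htop
    exact hne (le_antisymm h (Subgroup.subgroupOf_eq_top.1 htop))
  obtain ⟨x, hxn, hxH⟩ := SetLike.exists_of_lt
    (Group.normalizerCondition_of_isNilpotent (G := (P : Subgroup ↥(Cfsg.Omega F ⇑Q))) H hH)
  refine hxH (Φ.mem_syl_of_normalize fun y hy => ?_)
  exact (Subgroup.mem_normalizer_iff''.1 hxn ⟨y, h hy⟩).1 hy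

/-- An isometry of `Ω` conjugating two disjoint transpositions to a pair of signs. -/
theorem exists_conj {i j k l m : Fin 7} (hij : i ≠ j) (hkl : k ≠ l) (hik : i ≠ k) (hil : i ≠ l)
    (hjk : j ≠ k) (hjl : j ≠ l) (hm : m ≠ i ∧ m ≠ j ∧ m ≠ k ∧ m ≠ l) :
    ∃ g ∈ Cfsg.Omega F ⇑Q,
      g * Φ.mon (pairSgn k l) 1 * g⁻¹ = Φ.mon 1 (swap i j * swap k l) := by
  classical
  obtain ⟨hmi, hmj, hmk, hml⟩ := hm
  set v := Φ.b i - Φ.b j - Φ.b k - Φ.b l with hv
  set τ := swap i j * swap k l with hτ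
  have h2 := Φ.two_ne
  have h4 : (4 : F) ≠ 0 := by rw [show (4 : F) = 2 * 2 by norm_num]; exact mul_ne_zero h2 h2
  have hQv : Q v = -4 := by
    apply mul_left_cancel₀ h2
    rw [← polar_self', hv]
    simp only [polar_sub_left, polar_sub_right, Φ.polar_b, hij, hkl, hik, hil, hjk, hjl, hij.symm,
      hkl.symm, hik.symm, hil.symm, hjk.symm, hjl.symm, if_true, if_false]
    ring
  have hpv : ∀ x, polar Q (Φ.b x) v =
      (if x = i then -2 else 0) - (if x = j then -2 else 0) - (if x = k then -2 else 0) -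
        (if x = l then -2 else 0) := fun x => by
    rw [hv, polar_sub_right, polar_sub_right, polar_sub_right, Φ.polar_b, Φ.polar_b, Φ.polar_b, Φ.polar_b]
  have hτi : τ i = j := by simp [hτ, swap_apply_of_ne_of_ne, hik, hil, hij]
  have hτj : τ j = i := by simp [hτ, swap_apply_of_ne_of_ne, hjk, hjl]
  have hτk : τ k = l := by simp [hτ, swap_apply_of_ne_of_ne, hil.symm, hjl.symm]
  have hτl : τ l = k := by simp [hτ, swap_apply_of_ne_of_ne, hik.symm, hjk.symm]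
  have hτm : τ m = m := by simp [hτ, swap_apply_of_ne_of_ne, hmi, hmj, hmk, hml]
  have hτv : app (Φ.mon 1 τ) v = Φ.b j - Φ.b i - Φ.b l - Φ.b k := by
    rw [hv, map_sub, map_sub, map_sub, app_mon, app_mon, app_mon, app_mon, hτi, hτj, hτk, hτl]
    simp only [Pi.one_apply, sgnF_one, one_smul]
  have hconj : Φ.mon 1 τ * refl Q v = refl Q v * Φ.mon (pairSgn k l) 1 := by
    refine Φ.ext fun x => ?_
    rw [app_mul, app_mul, app_mon, Perm.one_apply, map_smul, app_refl, map_sub, map_smul, hτv, app_mon, hQv, hpv, hv]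
    simp only [Pi.one_apply, sgnF_one, one_smul, pairSgn]
    rcases eq_or_ne x i with rfl | h1
    · simp only [hij, hik, hil, hτi, if_true, if_false, or_self, sgnF_one]
      match_scalars <;> field_simp <;> ring
    rcases eq_or_ne x j with rfl | h2'
    · simp only [h1, hjk, hjl, hτj, if_true, if_false, or_self, sgnF_one]
      match_scalars <;> field_simp <;> ring
    rcases eq_or_ne x k with rfl | h3
    · simp only [h1, h2', hkl, hτk, if_true, if_false, true_or, sgnF_neg_one]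
      match_scalars <;> field_simp <;> ring
    rcases eq_or_ne x l with rfl | h4'
    · simp only [h1, h2', h3, hτl, if_true, if_false, or_true, sgnF_neg_one]
      match_scalars <;> field_simp <;> ring
    have hx : τ x = x := by simp [hτ, swap_apply_of_ne_of_ne, h1, h2', h3, h4']
    simp only [h1, h2', h3, h4', hx, if_false, or_self, sgnF_one]
    match_scalars <;> field_simp <;> ring
  have hrv : refl Q (Φ.b m) * Φ.mon 1 τ = Φ.mon 1 τ * refl Q (Φ.b m) := by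
    have h := refl_conj (Φ.mon 1 τ) (Φ.b m)
    rw [app_mon, hτm, Pi.one_apply, sgnF_one, one_smul, mul_inv_eq_iff_eq_mul] at h
    exact h.symm
  refine ⟨refl Q (Φ.b m) * refl Q v, ?_, ?_⟩
  · have hv0 : Q v ≠ 0 := by rw [hQv]; exact neg_ne_zero.2 h4
    rw [CfsgLib.OrthOmega.mem_omega_odd Φ.qdeg h2 Φ.nonsq, map_mul, chiPair_refl' h2 Φ.nonsq (Φ.val_ne m),
      chiPair_refl' h2 Φ.nonsq hv0, Φ.val, hQv, show (-4 : F) = -1 * 4 by ring,
      sqSign_mul (by simp) h4, (sqSign_eq_one_iff (4 : F)).2 ⟨2, by norm_num⟩, mul_one]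
    exact Prod.ext (Int.units_mul_self _) (Int.units_mul_self _)
  · rw [mul_inv_eq_iff_eq_mul, mul_assoc, ← hconj, ← mul_assoc, hrv, mul_assoc]

/-- A subgroup closed under fusion containing a nontrivial element contains everything. -/
theorem closed_eq (K : Subgroup ↥(Cfsg.Omega F ⇑Q)) (hK : K ≤ Φ.syl) (hne : K ≠ ⊥)
    (hcl : ∀ g, ∀ x ∈ K, g * x * g⁻¹ ∈ Φ.syl → g * x * g⁻¹ ∈ K) : K = Φ.syl := by
  classical
  obtain ⟨a, haK, ⟨ε, hε, ha⟩, ha1⟩ : ∃ a, a ∈ K ∧ a ∈ Φ.diag ∧ a ≠ 1 := by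
    obtain ⟨⟨x, hxK⟩, hx1⟩ := (Subgroup.ne_bot_iff_exists_ne_one.1 hne)
    have hx1' : x ≠ 1 := fun h => hx1 (Subtype.ext h)
    obtain ⟨ε, σ, hε, hσ, hx⟩ := hK hxK
    by_cases hσ1 : σ = 1
    · exact ⟨x, hxK, ⟨ε, hε, hσ1 ▸ hx⟩, hx1'⟩
    obtain ⟨δ, hδ, hmv⟩ : ∃ δ : Sgn, ∏ i, δ i = 1 ∧ moveSgn σ δ ≠ δ := by
      by_contra hc
      push Not at hc
      exact hσ1 (eq_one_of_moveSgn_fix hc)
    set d := Φ.el δ 1 hδ (map_one _) with hd
    have hd' : d ∈ Φ.diag := Φ.el_mem_diag δ hδ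
    refine ⟨d * x * d⁻¹ * x⁻¹, K.mul_mem (hcl d x hxK (Φ.syl.mul_mem (Φ.syl.mul_mem (Φ.diag_le_syl hd')
      (hK hxK)) (Φ.syl.inv_mem (Φ.diag_le_syl hd')))) (K.inv_mem hxK), ?_, fun hone => hmv ?_⟩
    · have := Φ.diag.mul_mem hd' (Φ.diag_normal hx (Φ.diag.inv_mem hd'))
      simpa [mul_assoc] using this
    · have hc : d * x = x * d := by
        rw [mul_inv_eq_one, mul_inv_eq_iff_eq_mul] at hone
        exact hone
      have := congrArg Subtype.val hc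
      rw [Subgroup.coe_mul, Subgroup.coe_mul, hx, hd] at this
      simp only [el, mon_mul, moveSgn_one] at this
      have h3 := (Φ.mon_injective this).1
      rw [mul_comm] at h3
      exact (mul_left_cancel h3).symm
  have hε1 : ε ≠ 1 := fun h => ha1 (Subtype.ext (by rw [ha, h, Φ.mon_one]; rfl))
  obtain ⟨i, j, k, l, hij, hkl, hik, hil, hjk, hjl, heij, hekl⟩ := exists_moved ε hε hε1
  have hmove : ∀ {δ : Sgn} (_ : ∏ i, δ i = 1) (σ : Perm (Fin 7)) (_ : Perm.sign σ = 1)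
      (y : ↥(Cfsg.Omega F ⇑Q)), y ∈ K → (y : O Q) = Φ.mon δ 1 →
      ∃ z ∈ K, (z : O Q) = Φ.mon (moveSgn σ δ) 1 := by
    intro δ hδ σ hσ y hy hym
    set s := Φ.el 1 σ (by simp) hσ
    have hz : ((s * y * s⁻¹ : ↥(Cfsg.Omega F ⇑Q)) : O Q) = Φ.mon (moveSgn σ δ) 1 := by
      rw [Subgroup.coe_mul, Subgroup.coe_mul, Subgroup.coe_inv, hym]
      exact Φ.conj_diag 1 δ σ
    exact ⟨_, hcl s y hy (Φ.diag_le_syl ⟨_, by rw [prod_moveSgn, hδ], hz⟩), hz⟩
  obtain ⟨b, hbK, hb⟩ := hmove hε (swap i j * swap k l)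
    (by rw [map_mul, Perm.sign_swap hij, Perm.sign_swap hkl]; decide) a haK ha
  have hpair0 : ((a * b : ↥(Cfsg.Omega F ⇑Q)) : O Q) = Φ.mon (pairSgn i j) 1 := by
    rw [Subgroup.coe_mul, ha, hb, mon_mul, moveSgn_one, one_mul]
    congr 1
    funext x
    simp only [Pi.mul_apply, moveSgn, pairSgn, ← Perm.inv_def, mul_inv_rev, swap_inv, Perm.mul_apply]
    rcases eq_or_ne x i with rfl | h1
    · rw [swap_apply_left, swap_apply_of_ne_of_ne hjk hjl, if_pos (Or.inl rfl)]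
      rcases Int.units_eq_one_or (ε x) with e | e <;> rcases Int.units_eq_one_or (ε j) with e' | e' <;>
        rw [e, e'] at heij ⊢ <;> simp at heij ⊢
    rcases eq_or_ne x j with rfl | h2
    · rw [swap_apply_right, swap_apply_of_ne_of_ne hik hil, if_pos (Or.inr rfl)]
      rcases Int.units_eq_one_or (ε i) with e | e <;> rcases Int.units_eq_one_or (ε x) with e' | e' <;>
        rw [e, e'] at heij ⊢ <;> simp at heij ⊢
    rw [swap_apply_of_ne_of_ne h1 h2, if_neg (by simp [h1, h2])]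
    rcases eq_or_ne x k with rfl | h3
    · rw [swap_apply_left, hekl, Int.units_mul_self]
    rcases eq_or_ne x l with rfl | h4
    · rw [swap_apply_right, hekl, Int.units_mul_self]
    · rw [swap_apply_of_ne_of_ne h3 h4, Int.units_mul_self]
  have hpair : ∀ p q : Fin 7, p ≠ q → ∃ z ∈ K, (z : O Q) = Φ.mon (pairSgn p q) 1 := by
    intro p q hpq
    obtain ⟨σ, hσ, hσi, hσj⟩ := exists_even_perm_pair hij hpq
    obtain ⟨z, hz, hzm⟩ := hmove (prod_pairSgn hij) σ hσ _ (K.mul_mem haK hbK) hpair0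
    exact ⟨z, hz, by rw [hzm, moveSgn_pair, hσi, hσj]⟩
  have hfold : ∀ L : List (Fin 6), ∃ z ∈ K,
      (z : O Q) = Φ.mon (L.foldr (fun i δ => pairSgn i.castSucc 6 * δ) 1) 1 := by
    intro L
    induction L with
    | nil => exact ⟨1, K.one_mem, by rw [List.foldr_nil, Φ.mon_one]; rfl⟩
    | cons p L ih =>
      obtain ⟨z, hz, hzm⟩ := ih
      obtain ⟨w, hw, hwm⟩ := hpair p.castSucc 6 (Fin.castSucc_lt_last p).ne
      exact ⟨w * z, K.mul_mem hw hz, by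
        rw [Subgroup.coe_mul, hwm, hzm, mon_mul, moveSgn_one, one_mul, List.foldr_cons]⟩
  have hdiag : Φ.diag ≤ K := by
    rintro x ⟨δ, hδ, hx⟩
    obtain ⟨z, hz, hzm⟩ := hfold ((List.finRange 6).filter fun i : Fin 6 => decide (δ i.castSucc = -1))
    rw [← eq_prod_pairSgn δ hδ] at hzm
    rwa [show x = z from Subtype.ext (hx.trans hzm.symm)]
  have htau : ∀ (p q r s m : Fin 7), p ≠ q → r ≠ s → p ≠ r → p ≠ s → q ≠ r → q ≠ s →
      (m ≠ p ∧ m ≠ q ∧ m ≠ r ∧ m ≠ s) → swap p q * swap r s ∈ D8 →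
      ∃ z ∈ K, (z : O Q) = Φ.mon 1 (swap p q * swap r s) := by
    intro p q r s m hpq hrs hpr hps hqr hqs hm hD
    obtain ⟨g, hg, hgc⟩ := Φ.exists_conj hpq hrs hpr hps hqr hqs hm
    set y := Φ.el (pairSgn r s) 1 (prod_pairSgn hrs) (map_one _)
    have hz : (((⟨g, hg⟩ : ↥(Cfsg.Omega F ⇑Q)) * y * ⟨g, hg⟩⁻¹ : ↥(Cfsg.Omega F ⇑Q)) : O Q) =
        Φ.mon 1 (swap p q * swap r s) := by
      rw [Subgroup.coe_mul, Subgroup.coe_mul, Subgroup.coe_inv]
      exact hgc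
    exact ⟨_, hcl _ y (hdiag (Φ.el_mem_diag _ _)) ⟨1, _, by simp, hD, hz⟩, hz⟩
  obtain ⟨u, hu, hum⟩ := htau 0 1 4 5 6 (by decide) (by decide) (by decide) (by decide) (by decide)
    (by decide) (by decide) (mem_D8.mpr ⟨(1, 0, 0), by decide +kernel⟩)
  obtain ⟨z, hz, hzm⟩ := htau 0 1 2 3 6 (by decide) (by decide) (by decide) (by decide) (by decide)
    (by decide) (by decide) (mem_D8.mpr ⟨(0, 1, 0), by decide +kernel⟩)
  obtain ⟨w, hw, hwm⟩ := htau 0 2 1 3 6 (by decide) (by decide) (by decide) (by decide) (by decide)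
    (by decide) (by decide) (mem_D8.mpr ⟨(0, 0, 1), by decide +kernel⟩)
  refine le_antisymm hK fun x hx => ?_
  obtain ⟨δ, σ, hδ, ⟨c, rfl⟩, hxm⟩ := hx
  have hperm : ((u ^ (c.1 : ℕ) * (z ^ (c.2.1 : ℕ) * w ^ (c.2.2 : ℕ)) : ↥(Cfsg.Omega F ⇑Q)) : O Q) =
      Φ.mon 1 (dperm c) := by
    show _ = Φ.permHom (dperm c)
    rw [Subgroup.coe_mul, Subgroup.coe_mul, SubgroupClass.coe_pow, SubgroupClass.coe_pow,
      SubgroupClass.coe_pow, hum, hzm, hwm, dperm, map_mul, map_mul, map_pow, map_pow, map_pow]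
    rfl
  have he : x = Φ.el δ 1 hδ (map_one _) * (u ^ (c.1 : ℕ) * (z ^ (c.2.1 : ℕ) * w ^ (c.2.2 : ℕ))) := by
    refine Subtype.ext ?_
    rw [hxm, Subgroup.coe_mul, hperm]
    exact Φ.mon_eq δ (dperm c)
  rw [he]
  exact K.mul_mem (hdiag (Φ.el_mem_diag δ hδ))
    (K.mul_mem (K.pow_mem hu _) (K.mul_mem (K.pow_mem hz _) (K.pow_mem hw _)))

/-- Conjugating the frame conjugates the subgroup. -/
theorem mem_syl_map (c x : ↥(Cfsg.Omega F ⇑Q)) :
    x ∈ (Φ.map (c : O Q)).syl ↔ c⁻¹ * x * c ∈ Φ.syl := by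
  constructor
  · rintro ⟨ε, σ, hε, hσ, hx⟩
    refine ⟨ε, σ, hε, hσ, ?_⟩
    rw [Subgroup.coe_mul, Subgroup.coe_mul, Subgroup.coe_inv, hx, mon_map]
    group
  · rintro ⟨ε, σ, hε, hσ, hx⟩
    refine ⟨ε, σ, hε, hσ, ?_⟩
    rw [mon_map, ← hx, Subgroup.coe_mul, Subgroup.coe_mul, Subgroup.coe_inv]
    group

include Φ in
/-- Every Sylow 2-subgroup is the monomial subgroup of some frame. -/
theorem exists_frame_syl (S : Sylow 2 ↥(Cfsg.Omega F ⇑Q)) :
    ∃ Ψ : Frame Q, Ψ.syl = (S : Subgroup ↥(Cfsg.Omega F ⇑Q)) := by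
  have : Fact (Nat.Prime 2) := ⟨Nat.prime_two⟩
  obtain ⟨P, hP⟩ := (IsPGroup.of_card (p := 2) (n := 9) Φ.card_syl).exists_le_sylow
  have hPe := Φ.syl_eq_of_le hP
  obtain ⟨c, hc⟩ := MulAction.exists_smul_eq ↥(Cfsg.Omega F ⇑Q) P S
  refine ⟨Φ.map (c : O Q), ?_⟩
  ext x
  rw [mem_syl_map, hPe, ← hc, Sylow.coe_subgroup_smul, Subgroup.mem_pointwise_smul_iff_inv_smul_mem]
  simp [MulAut.smul_def]

end Frame

/-- The three properties of the 2-fusion system. -/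
theorem fusion_simple (Φ : Frame Q) (S : Sylow 2 ↥(Cfsg.Omega F ⇑Q)) :
    (groupFusionSystem (S : Subgroup ↥(Cfsg.Omega F ⇑Q))).autGroup (S : Subgroup ↥(Cfsg.Omega F ⇑Q)) =
        Cfsg.Inn ↥(S : Subgroup ↥(Cfsg.Omega F ⇑Q)) ∧
      (∀ T : Subgroup ↥(Cfsg.Omega F ⇑Q),
        (groupFusionSystem (S : Subgroup ↥(Cfsg.Omega F ⇑Q))).StronglyClosed T →
          T = ⊥ ∨ T = (S : Subgroup ↥(Cfsg.Omega F ⇑Q))) ∧
      (groupFusionSystem (S : Subgroup ↥(Cfsg.Omega F ⇑Q))).IsSimple 2 := by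
  classical
  have : Fact (Nat.Prime 2) := ⟨Nat.prime_two⟩
  obtain ⟨Ψ, hΨ⟩ := Φ.exists_frame_syl S
  have hS1 : (S : Subgroup ↥(Cfsg.Omega F ⇑Q)) ≠ ⊥ := by
    intro h
    have := Ψ.card_syl
    rw [hΨ, h, Subgroup.card_bot] at this
    omega
  have hnorm : ∀ g : ↥(Cfsg.Omega F ⇑Q), (∀ x ∈ (S : Subgroup ↥(Cfsg.Omega F ⇑Q)),
      g * x * g⁻¹ ∈ (S : Subgroup ↥(Cfsg.Omega F ⇑Q))) → g ∈ (S : Subgroup ↥(Cfsg.Omega F ⇑Q)) := by
    intro g hg
    rw [← hΨ] at hg ⊢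
    refine inv_mem_iff.mp (Ψ.mem_syl_of_normalize fun x hx => ?_)
    rw [inv_inv]
    exact hg x hx
  have hclosed : ∀ T : Subgroup ↥(Cfsg.Omega F ⇑Q),
      (groupFusionSystem (S : Subgroup ↥(Cfsg.Omega F ⇑Q))).StronglyClosed T →
        T = ⊥ ∨ T = (S : Subgroup ↥(Cfsg.Omega F ⇑Q)) := by
    intro T hT
    refine or_iff_not_imp_left.2 fun hne => ?_
    rw [← hΨ]
    refine Ψ.closed_eq T (hΨ ▸ hT.1) hne fun g x hx hgx => ?_
    rw [hΨ] at hgx
    let Z : Subgroup ↥(Cfsg.Omega F ⇑Q) := Subgroup.zpowers x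
    let φ : Z →* ↥(Cfsg.Omega F ⇑Q) := (MulAut.conj g).toMonoidHom.comp Z.subtype
    have hφ : φ ∈ (groupFusionSystem (S : Subgroup ↥(Cfsg.Omega F ⇑Q))).Hom Z := by
      refine ⟨Subgroup.zpowers_le.mpr (hT.1 hx), fun v => ?_, g, fun v => rfl⟩
      obtain ⟨v, hv⟩ := v
      obtain ⟨n, rfl⟩ := Subgroup.mem_zpowers_iff.mp hv
      show g * x ^ n * g⁻¹ ∈ (S : Subgroup ↥(Cfsg.Omega F ⇑Q))
      rw [← MulAut.conj_apply, map_zpow, MulAut.conj_apply]
      exact zpow_mem hgx n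
    exact CfsgLib.FusionExtend.sc_apply hT hφ ⟨x, Subgroup.mem_zpowers x⟩ hx
  refine ⟨le_antisymm ?_ ?_, hclosed, CfsgLib.FusionSimple.group_isSimple S hS1 hclosed fun E hE => ?_⟩
  · refine (Subgroup.closure_le _).2 ?_
    rintro α ⟨-, -, g, hg⟩
    have hgS := hnorm g fun x hx => by
      rw [← hg ⟨x, hx⟩]
      exact (α ⟨x, hx⟩).2
    exact ⟨⟨g, hgS⟩, MulEquiv.ext fun x => Subtype.ext (hg x).symm⟩
  · rintro _ ⟨s, rfl⟩
    exact Subgroup.subset_closure ⟨le_rfl, fun x => (MulAut.conj s x).2, s.1, fun x => rfl⟩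
  · intro α hα
    obtain ⟨g, -, hge⟩ := CfsgLib.Fusion.mem_autInducedBy.mp hα
    have hgS := hnorm g fun x hx => by
      rw [← hge ⟨x, hx⟩]
      exact (α ⟨x, hx⟩).2
    have hmap : ∀ R, (groupFusionSystem (S : Subgroup ↥(Cfsg.Omega F ⇑Q))).IsConj
        (S : Subgroup ↥(Cfsg.Omega F ⇑Q)) R → R = (S : Subgroup ↥(Cfsg.Omega F ⇑Q)) := by
      intro R hR
      obtain ⟨-, hRS, c, rfl⟩ := CfsgLib.Fusion.group_isConj_iff.mp hR
      exact Subgroup.eq_of_le_of_card_ge hRS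
        (by rw [← Nat.card_congr (Subgroup.equivMapOfInjective _ _ (MulAut.conj c).injective).toEquiv])
    refine hE (S : Subgroup ↥(Cfsg.Omega F ⇑Q)) ⟨le_rfl, fun R hR => by rw [hmap R hR]⟩
      ⟨le_rfl, fun R hR => by rw [hmap R hR]; exact inf_le_left⟩
      (CfsgLib.Fusion.mem_autInducedBy.mpr ⟨g, Subgroup.subset_closure ⟨Subgroup.le_normalizer hgS, ?_⟩, hge⟩)
    obtain ⟨k, hk⟩ := S.2 ⟨g, hgS⟩
    obtain ⟨j, -, hj⟩ := (Nat.dvd_prime_pow Nat.prime_two).mp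
      (orderOf_dvd_of_pow_eq_one (x := g) (by simpa using congrArg Subtype.val hk))
    exact ⟨j, hj⟩

end CfsgLib.OmegaSeven
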